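import Mathlib

/-!
# Minimal normal subgroups and their minimal `N`-invariant factors
-/

set_option autoImplicit false

namespace Cfsg.Lib.Group.MinFactor

open Subgroup

variable {G : Type*} [Group G]

/-- `S` is a minimal nontrivial subgroup of `N` normalized by `N`. -/
structure Factor (N S : Subgroup G) : Prop where
  le : S ≤ N
  norm : ∀ n ∈ N, ∀ s ∈ S, n * s * n⁻¹ ∈ S
  ne : S ≠ ⊥
  min : ∀ R : Subgroup G, R ≤ S → (∀ n ∈ N, ∀ r ∈ R, n * r * n⁻¹ ∈ R) → R ≠ ⊥ → R = S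

theorem exists_minimal_normal [Finite G] {K : Subgroup G} (hKn : K.Normal) (hK : K ≠ ⊥) :
    ∃ N : Subgroup G, N.Normal ∧ N ≤ K ∧ N ≠ ⊥ ∧ ∀ M : Subgroup G, M.Normal → M ≤ N → M ≠ ⊥ → M = N := by
  obtain ⟨N, ⟨hn, hle, hne⟩, hmin⟩ := Set.Finite.exists_minimal
    (Set.toFinite {M : Subgroup G | M.Normal ∧ M ≤ K ∧ M ≠ ⊥}) ⟨K, hKn, le_rfl, hK⟩
  exact ⟨N, hn, hle, hne, fun M h1 h2 h3 => le_antisymm h2 (hmin ⟨h1, h2.trans hle, h3⟩ h2)⟩

theorem exists_factor [Finite G] {N : Subgroup G} (hN : N ≠ ⊥) : ∃ S, Factor N S := by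
  obtain ⟨S, ⟨hle, hnorm, hne⟩, hmin⟩ := Set.Finite.exists_minimal
    (Set.toFinite {M : Subgroup G | M ≤ N ∧ (∀ n ∈ N, ∀ s ∈ M, n * s * n⁻¹ ∈ M) ∧ M ≠ ⊥})
    ⟨N, le_rfl, fun n hn s hs => N.mul_mem (N.mul_mem hn hs) (N.inv_mem hn), hN⟩
  exact ⟨S, hle, hnorm, hne, fun R h1 h2 h3 => le_antisymm h1 (hmin ⟨h1.trans hle, h2, h3⟩ h1)⟩

variable {N S T : Subgroup G}

theorem Factor.conj [hN : N.Normal] (h : Factor N S) (g : G) :
    Factor N (S.map (MulAut.conj g).toMonoidHom) := by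
  refine ⟨?_, ?_, ?_, ?_⟩
  · rintro _ ⟨s, hs, rfl⟩
    exact hN.conj_mem s (h.le hs) g
  · rintro n hn _ ⟨s, hs, rfl⟩
    refine ⟨g⁻¹ * n * g * s * (g⁻¹ * n * g)⁻¹, h.norm _ (by simpa using hN.conj_mem n hn g⁻¹) s hs, ?_⟩
    simp [mul_assoc]
  · rw [Ne, map_eq_bot_iff_of_injective _ (MulAut.conj g).injective]
    exact h.ne
  · intro R hR hRn hRne
    have h1 : R.comap (MulAut.conj g).toMonoidHom = S := by
      refine h.min _ ?_ ?_ ?_
      · intro x hx
        obtain ⟨s, hs, he⟩ := hR hx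
        rwa [← (MulAut.conj g).injective he]
      · intro n hn r hr
        show g * (n * r * n⁻¹) * g⁻¹ ∈ R
        have := hRn (g * n * g⁻¹) (hN.conj_mem n hn g) _ hr
        simpa [mul_assoc] using this
      · intro hbot
        apply hRne
        rw [← map_comap_eq_self_of_surjective
          (show Function.Surjective (MulAut.conj g).toMonoidHom from (MulAut.conj g).surjective) R,
          hbot, Subgroup.map_bot]
    rw [← h1, map_comap_eq_self_of_surjective
      (show Function.Surjective (MulAut.conj g).toMonoidHom from (MulAut.conj g).surjective)]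

/-- Distinct factors commute. -/
theorem Factor.commute (hS : Factor N S) (hT : Factor N T) (hne : S ≠ T) {s t : G} (hs : s ∈ S)
    (ht : t ∈ T) : Commute s t := by
  have hbot : S ⊓ T = ⊥ := by
    by_contra h
    have hn : ∀ n ∈ N, ∀ r ∈ S ⊓ T, n * r * n⁻¹ ∈ S ⊓ T := fun n hn r hr =>
      ⟨hS.norm n hn r hr.1, hT.norm n hn r hr.2⟩
    exact hne ((hS.min _ inf_le_left hn h).symm.trans (hT.min _ inf_le_right hn h))
  have hmem : s * t * s⁻¹ * t⁻¹ ∈ S ⊓ T := by
    refine ⟨?_, T.mul_mem (hT.norm s (hS.le hs) t ht) (T.inv_mem ht)⟩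
    rw [show s * t * s⁻¹ * t⁻¹ = s * (t * s⁻¹ * t⁻¹) by group]
    exact S.mul_mem hs (hS.norm t (hT.le ht) _ (S.inv_mem hs))
  rw [hbot, mem_bot] at hmem
  exact mul_inv_eq_iff_eq_mul.1 (mul_inv_eq_one.1 hmem)

variable [hN : N.Normal] (hmin : ∀ M : Subgroup G, M.Normal → M ≤ N → M ≠ ⊥ → M = N)

include hmin in
theorem Factor.iSup_conj (h : Factor N S) : ⨆ g : G, S.map (MulAut.conj g).toMonoidHom = N := by
  refine hmin _ ⟨fun x hx g => ?_⟩ (iSup_le fun g => (h.conj g).le) fun hb => h.ne ?_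
  · have : (⨆ k : G, S.map (MulAut.conj k).toMonoidHom) ≤
        (⨆ k : G, S.map (MulAut.conj k).toMonoidHom).comap (MulAut.conj g).toMonoidHom := iSup_le fun k y hy => by
      obtain ⟨s, hs, rfl⟩ := hy
      refine le_iSup (fun k : G => S.map (MulAut.conj k).toMonoidHom) (g * k) ⟨s, hs, ?_⟩
      simp [mul_assoc]
    exact this hx
  · rw [eq_bot_iff]
    intro s hs
    rw [← hb]
    exact le_iSup (fun k : G => S.map (MulAut.conj k).toMonoidHom) 1 ⟨s, hs, by simp⟩

variable (hnc : ¬ IsMulCommutative N)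

omit hN in
include hmin hnc in
theorem inf_centralizer [hN : N.Normal] : N ⊓ centralizer (N : Set G) = ⊥ := by
  by_contra h
  have he := hmin _ (inferInstance : (N ⊓ centralizer (N : Set G)).Normal) inf_le_left h
  refine hnc ⟨⟨fun a b => Subtype.ext ?_⟩⟩
  exact mem_centralizer_iff.1 (he.ge b.2).2 a a.2

include hmin hnc in
theorem Factor.inf_centralizer (h : Factor N S) : S ⊓ centralizer (S : Set G) = ⊥ := by
  by_contra hb
  have hn : ∀ n ∈ N, ∀ r ∈ S ⊓ centralizer (S : Set G), n * r * n⁻¹ ∈ S ⊓ centralizer (S : Set G) := by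
    intro n hn r hr
    refine ⟨h.norm n hn r hr.1, mem_centralizer_iff.2 fun s hs => ?_⟩
    have h1 := mem_centralizer_iff.1 hr.2 _ (h.norm n⁻¹ (N.inv_mem hn) s hs)
    simp only [inv_inv] at h1
    calc s * (n * r * n⁻¹) = n * (n⁻¹ * s * n * r) * n⁻¹ := by group
      _ = n * (r * (n⁻¹ * s * n)) * n⁻¹ := by rw [h1]
      _ = n * r * n⁻¹ * s := by group
  have habel : S ≤ centralizer (S : Set G) := (h.min _ inf_le_left hn hb).ge.trans inf_le_right
  have hconjab : ∀ g k : G, S.map (MulAut.conj g).toMonoidHom ≤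
      centralizer (S.map (MulAut.conj k).toMonoidHom : Set G) := by
    intro g k x hx
    refine mem_centralizer_iff.2 fun y hy => ?_
    by_cases heq : S.map (MulAut.conj k).toMonoidHom = S.map (MulAut.conj g).toMonoidHom
    · rw [SetLike.mem_coe, heq] at hy
      obtain ⟨a, ha, rfl⟩ := hx
      obtain ⟨b, hb', rfl⟩ := hy
      rw [← map_mul, ← map_mul, mem_centralizer_iff.1 (habel ha) b hb']
    · exact (h.conj k).commute (h.conj g) heq hy hx
  have hNN : N ≤ centralizer (N : Set G) := by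
    conv_lhs => rw [← h.iSup_conj hmin]
    refine iSup_le fun g => ?_
    rw [le_centralizer_iff]
    conv_lhs => rw [← h.iSup_conj hmin]
    refine iSup_le fun k => ?_
    rw [le_centralizer_iff]
    exact hconjab g k
  exact hnc ⟨⟨fun a b => Subtype.ext (mem_centralizer_iff.1 (hNN b.2) a a.2)⟩⟩

include hmin in
theorem Factor.sup_centralizer (h : Factor N S) : S ⊔ (N ⊓ centralizer (S : Set G)) = N := by
  refine le_antisymm (sup_le h.le inf_le_left) ?_
  conv_lhs => rw [← h.iSup_conj hmin]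
  refine iSup_le fun g => ?_
  by_cases heq : S.map (MulAut.conj g).toMonoidHom = S
  · exact heq.le.trans le_sup_left
  · refine le_trans ?_ le_sup_right
    exact fun x hx => ⟨(h.conj g).le hx, mem_centralizer_iff.2 fun s hs =>
      (h.commute (h.conj g) (Ne.symm heq) hs hx).eq⟩

theorem normal_subgroupOf_centralizer (h : Factor N S) :
    ((N ⊓ centralizer (S : Set G)).subgroupOf N).Normal := by
  refine ⟨fun r hr n => ?_⟩
  rw [mem_subgroupOf] at hr ⊢
  refine ⟨hN.conj_mem _ hr.1 _, mem_centralizer_iff.2 fun s hs => ?_⟩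
  have h1 := mem_centralizer_iff.1 hr.2 _ (h.norm (n : G)⁻¹ (N.inv_mem n.2) s hs)
  simp only [inv_inv] at h1
  simp only [Subgroup.coe_mul, Subgroup.coe_inv]
  calc s * ((n : G) * r * (n : G)⁻¹) = (n : G) * ((n : G)⁻¹ * s * n * r) * (n : G)⁻¹ := by group
    _ = (n : G) * (r * ((n : G)⁻¹ * s * n)) * (n : G)⁻¹ := by rw [h1]
    _ = _ := by group

end Cfsg.Lib.Group.MinFactor
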