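import Cfsg.Agent.Lib.PGroup.CentralizerSq
import Cfsg.Agent.Lib.Group.MinimalNormalFactor
import Cfsg.Agent.Lib.Local.SubnormalSylow
import Cfsg.Agent.Lib.Core.Cores
import Cfsg.Agent.Lib.Local.Sylow
import Cfsg.Agent.S0081

/-!
# `|P : P'| = p²` gives a normal subgroup meeting `P` in an abelian subgroup of index `p`
-/

set_option autoImplicit false
set_option linter.style.haveILetI false

namespace Cfsg.Lib.Group.AbelianIndexTrace

open Subgroup Cfsg.Lib
open scoped commutatorElement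

variable {G : Type*} [Group G] [Finite G] {p : ℕ} [hp : Fact p.Prime]

theorem isSubnormal_of_normal_in {N A : Subgroup G} [hN : N.Normal] (hle : A ≤ N)
    (hA : (A.subgroupOf N).Normal) : A.IsSubnormal :=
  .step A N hle (Subgroup.Normal.isSubnormal hN) hA

/-- A nontrivial subnormal subgroup meets `P` when `O_{p'}(G) = 1`. -/
theorem inf_sylow_ne_bot (hcore : Cfsg.pPrimeCore p G = ⊥) (P : Sylow p G) {A : Subgroup G}
    (hA : A.IsSubnormal) (hne : A ≠ ⊥) : (P : Subgroup G) ⊓ A ≠ ⊥ := by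
  intro h
  have h1 := Local.not_dvd_relIndex_inf P hA
  rw [h, relIndex_bot_left] at h1
  have h2 : Cfsg.pPrimeCore p ↥A = ⊤ :=
    Core.pPrimeCore_eq_top ((hp.out.coprime_iff_not_dvd.2 h1).symm)
  have h3 := Core.pPrimeCore_map_le_of_isSubnormal (p := p) hA
  rw [h2, hcore, ← MonoidHom.range_eq_map, range_subtype] at h3
  exact hne (le_bot_iff.1 h3)

/-- A nontrivial normal subgroup does not meet `P` inside `P'`. -/
theorem not_le_commutator (hcore : Cfsg.pPrimeCore p G = ⊥) (P : Sylow p G)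
    (hcore' : (⁅(P : Subgroup G), (P : Subgroup G)⁆).normalCore = ⊥) (N : Subgroup G) [N.Normal]
    (hN : N ≠ ⊥) : ¬ N.subgroupOf (P : Subgroup G) ≤ commutator ↥(P : Subgroup G) := by
  intro hle
  have h : N ⊓ (P : Subgroup G) ≤ (frattini P).map (P : Subgroup G).subtype := by
    intro x hx
    exact ⟨⟨x, hx.2⟩, PGroup.commutator_le_frattini P.2 (hle (mem_subgroupOf.2 hx.1)), rfl⟩
  have hc := Cfsg.Agent.S0081.result P N h
  rw [Fusion.hasNormalPComplement_iff_coprime] at hc
  have h1 : Cfsg.pResidual p ↥N = ⊥ := by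
    haveI := Fusion.pResidual_normal p ↥N
    have h2 : Cfsg.pResidual p ↥N ≤ Cfsg.pPrimeCore p ↥N := Core.le_pPrimeCore hc
    have h3 := Core.pPrimeCore_map_le_of_isSubnormal (p := p)
      (Subgroup.Normal.isSubnormal (H := N) inferInstance)
    rw [hcore, le_bot_iff, Subgroup.map_eq_bot_iff_of_injective _ N.subtype_injective] at h3
    exact le_bot_iff.1 (h2.trans h3.le)
  obtain ⟨S, hS⟩ := Local.exists_sylow_inf P N
  have hNP : N ≤ P := by
    have h4 := Fusion.sylow_sup_pResidual S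
    rw [h1, sup_bot_eq, hS, subgroupOf_eq_top] at h4
    exact h4
  refine hN (le_bot_iff.1 ?_)
  rw [← hcore', Subgroup.normal_le_normalCore]
  intro x hx
  rw [← map_subtype_commutator]
  exact ⟨⟨x, hNP hx⟩, hle (mem_subgroupOf.2 hx), rfl⟩

/-- The main structure statement. -/
theorem exists_normal_trace (hcore : Cfsg.pPrimeCore p G = ⊥) (P : Sylow p G)
    (hcore' : (⁅(P : Subgroup G), (P : Subgroup G)⁆).normalCore = ⊥)
    (hnas : ¬ ∃ S : Subgroup G, S.Normal ∧ IsSimpleGroup S ∧ ¬ IsMulCommutative S ∧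
      Subgroup.centralizer (S : Set G) = ⊥)
    (hab : (commutator ↥(P : Subgroup G)).index = p ^ 2) (hne : commutator ↥(P : Subgroup G) ≠ ⊥) :
    ∃ N : Subgroup G, N.Normal ∧ (N.subgroupOf (P : Subgroup G)).index = p ∧
      ∀ a ∈ N.subgroupOf (P : Subgroup G), ∀ b ∈ N.subgroupOf (P : Subgroup G), a * b = b * a := by
  set P₀ : Subgroup G := (P : Subgroup G)
  have hX : IsPGroup p ↥P₀ := P.2
  haveI : Nontrivial G := by
    by_contra hns
    rw [not_nontrivial_iff_subsingleton] at hns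
    exact hne (Subsingleton.elim _ _)
  obtain ⟨N, hNn, -, hN, hmin⟩ :=
    MinFactor.exists_minimal_normal (K := (⊤ : Subgroup G)) inferInstance top_ne_bot
  haveI := hNn
  have hdich : ∀ M : Subgroup G, M.Normal → M ≠ ⊥ →
      M.subgroupOf P₀ = ⊤ ∨ ((M.subgroupOf P₀).index = p ∧ commutator ↥P₀ ≤ M.subgroupOf P₀) :=
    fun M hMn hM => haveI := hMn; PGroup.CentralizerSq.eq_top_or_index hX hab
      (not_le_commutator hcore P hcore' M hM)
  by_cases hNab : IsMulCommutative N
  · have hc : ∀ a ∈ N.subgroupOf P₀, ∀ b ∈ N.subgroupOf P₀, a * b = b * a := fun a ha b hb =>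
      Subtype.ext (congrArg (Subtype.val : ↥N → G)
        (hNab.is_comm.comm ⟨(a : G), ha⟩ ⟨(b : G), hb⟩))
    refine ⟨N, hNn, ?_, hc⟩
    rcases hdich N hNn hN with h | h
    · refine absurd (le_bot_iff.1 ?_) hne
      rw [commutator_def, commutator_le]
      intro a _ b _
      rw [mem_bot, commutatorElement_eq_one_iff_mul_comm]
      exact hc a (h ▸ mem_top a) b (h ▸ mem_top b)
    · exact h.1
  obtain ⟨S₀, hS₀⟩ := MinFactor.exists_factor hN
  have hSn : ∀ {S}, MinFactor.Factor N S → (S.subgroupOf N).Normal := fun {S} hS =>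
    ⟨fun s hs n => hS.norm n n.2 s hs⟩
  set C : Subgroup G := centralizer (S₀ : Set G)
  by_cases hall : ∀ g : G, S₀.map (MulAut.conj g).toMonoidHom = S₀
  · -- `N` is simple
    exfalso
    have hNS : N = S₀ := by rw [← hS₀.iSup_conj hmin]; simp only [hall, iSup_const]
    have hsimple : IsSimpleGroup N := by
      haveI : Nontrivial N := (nontrivial_iff_ne_bot N).2 hN
      refine ⟨fun R hR => ?_⟩
      by_cases hRb : R = ⊥
      · exact Or.inl hRb
      right
      have h1 := hS₀.min (R.map N.subtype) ((map_subtype_le R).trans hNS.le) (by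
        rintro n hn _ ⟨r, hr, rfl⟩
        exact ⟨⟨n, hn⟩ * r * ⟨n, hn⟩⁻¹, hR.conj_mem r hr _, rfl⟩)
        (by rwa [Ne, map_eq_bot_iff_of_injective _ N.subtype_injective])
      apply map_injective N.subtype_injective
      rw [h1, ← hNS, ← MonoidHom.range_eq_map, range_subtype]
    have hCN : centralizer (N : Set G) ≠ ⊥ := fun h => hnas ⟨N, hNn, hsimple, hNab, h⟩
    have hint : (N.subgroupOf P₀) ⊓ ((centralizer (N : Set G)).subgroupOf P₀) = ⊥ := by
      rw [eq_bot_iff]
      intro x hx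
      have h1 : (x : G) ∈ N ⊓ centralizer (N : Set G) := ⟨hx.1, hx.2⟩
      rw [MinFactor.inf_centralizer hmin hNab, mem_bot] at h1
      exact Subtype.ext h1
    have hMn : ¬ (centralizer (N : Set G)).subgroupOf P₀ = ⊥ := fun h =>
      not_le_commutator hcore P hcore' _ hCN (h.le.trans bot_le)
    have hNn' : ¬ N.subgroupOf P₀ = ⊥ := fun h =>
      not_le_commutator hcore P hcore' _ hN (h.le.trans bot_le)
    rcases hdich N hNn hN with h | h
    · rw [h, top_inf_eq] at hint; exact hMn hint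
    rcases hdich _ inferInstance hCN with h' | h'
    · rw [h', inf_top_eq] at hint; exact hNn' hint
    exact hne (le_bot_iff.1 (hint ▸ le_inf h.2 h'.2))
  push Not at hall
  -- every factor splits `N ∩ P`
  have key : ∀ S, MinFactor.Factor N S →
      (S.subgroupOf P₀ ≠ ⊥) ∧
      ((N ⊓ centralizer (S : Set G)).subgroupOf P₀ ≠ ⊥) ∧
      (∀ q ∈ N.subgroupOf P₀, ∃ a ∈ S.subgroupOf P₀,
        ∃ b ∈ (N ⊓ centralizer (S : Set G)).subgroupOf P₀, q = a * b) := by
    intro S hS
    set B := N ⊓ centralizer (S : Set G)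
    have hsS := isSubnormal_of_normal_in hS.le (hSn hS)
    have hsB : B.IsSubnormal :=
      isSubnormal_of_normal_in inf_le_left (MinFactor.normal_subgroupOf_centralizer hS)
    have hne' : ∀ A : Subgroup G, A.IsSubnormal → A ≠ ⊥ → A.subgroupOf P₀ ≠ ⊥ := by
      intro A hA hA0 h
      refine inf_sylow_ne_bot hcore P hA hA0 (le_bot_iff.1 fun x hx => ?_)
      have h1 : (⟨x, hx.1⟩ : ↥P₀) ∈ A.subgroupOf P₀ := mem_subgroupOf.2 hx.2
      rw [h, mem_bot] at h1
      exact congrArg Subtype.val h1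
    obtain ⟨g, hg⟩ : ∃ g : G, S.map (MulAut.conj g).toMonoidHom ≠ S := by
      by_contra hcon
      push Not at hcon
      have h0 : N = S := by rw [← hS.iSup_conj hmin]; simp only [hcon, iSup_const]
      obtain ⟨k, hk⟩ := hall
      refine hk ?_
      have h1 := hS.min S₀ (hS₀.le.trans h0.le) hS₀.norm hS₀.ne
      have h2 := hS.min _ ((hS₀.conj k).le.trans h0.le) (hS₀.conj k).norm (hS₀.conj k).ne
      rw [h2, h1]
    have hB0 : B ≠ ⊥ := fun h => (hS.conj g).ne (le_bot_iff.1 (h ▸ fun x hx =>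
      ⟨(hS.conj g).le hx, mem_centralizer_iff.2 fun s hs => (hS.commute (hS.conj g) hg.symm hs hx).eq⟩))
    refine ⟨hne' S hsS hS.ne, hne' B hsB hB0, fun q hq => ?_⟩
    have hcomm : ⁅S, B⁆ = ⊥ := by
      rw [commutator_eq_bot_iff_le_centralizer, le_centralizer_iff]
      exact inf_le_right
    have hq' : (q : G) ∈ ((P : Subgroup G) ⊓ S) ⊔ ((P : Subgroup G) ⊓ B) :=
      Local.inf_sup_le_of_commute P hsS hsB hcomm ⟨q.2, (hS.sup_centralizer hmin).ge hq⟩
    have hcomm' : ⁅(P : Subgroup G) ⊓ S, (P : Subgroup G) ⊓ B⁆ = ⊥ :=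
      le_bot_iff.1 ((commutator_mono inf_le_right inf_le_right).trans hcomm.le)
    obtain ⟨a, ha, b, hb, hab'⟩ := (Core.mem_sup_of_commute hcomm').1 hq'
    exact ⟨⟨a, ha.1⟩, ha.2, ⟨b, hb.1⟩, hb.2, Subtype.ext hab'.symm⟩
  have hdisj : ∀ S, MinFactor.Factor N S →
      S.subgroupOf P₀ ⊓ (N ⊓ centralizer (S : Set G)).subgroupOf P₀ = ⊥ := by
    intro S hS
    rw [eq_bot_iff]
    intro x hx
    have h1 : (x : G) ∈ S ⊓ centralizer (S : Set G) := ⟨hx.1, hx.2.2⟩
    rw [hS.inf_centralizer hmin hNab, mem_bot] at h1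
    exact Subtype.ext h1
  have hsup : ∀ S, MinFactor.Factor N S →
      S.subgroupOf P₀ ⊔ (N ⊓ centralizer (S : Set G)).subgroupOf P₀ = N.subgroupOf P₀ := by
    intro S hS
    refine le_antisymm (sup_le (fun x hx => hS.le hx) fun x hx => hx.1) fun q hq => ?_
    obtain ⟨a, ha, b, hb, rfl⟩ := (key S hS).2.2 q hq
    exact mul_mem_sup ha hb
  have hnormal : ∀ S, MinFactor.Factor N S → (∀ x : ↥P₀, ∀ s ∈ S, (x : G) * s * (x : G)⁻¹ ∈ S) →
      (S.subgroupOf P₀).Normal ∧ ((N ⊓ centralizer (S : Set G)).subgroupOf P₀).Normal := by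
    intro S hS hx
    refine ⟨⟨fun s hs x => hx x _ hs⟩, ⟨fun r hr x => ?_⟩⟩
    refine ⟨hNn.conj_mem _ hr.1 _, mem_centralizer_iff.2 fun s hs => ?_⟩
    have h1 : (x⁻¹ : ↥P₀).1 * s * ((x⁻¹ : ↥P₀).1)⁻¹ ∈ S := hx x⁻¹ s hs
    have h2 := mem_centralizer_iff.1 hr.2 _ h1
    simp only [Subgroup.coe_inv, inv_inv, Subgroup.coe_mul] at h2 ⊢
    show s * ((x : G) * r * (x : G)⁻¹) = (x : G) * r * (x : G)⁻¹ * s
    calc s * ((x : G) * r * (x : G)⁻¹) = (x : G) * ((x : G)⁻¹ * s * x * r) * (x : G)⁻¹ := by group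
      _ = (x : G) * (r * ((x : G)⁻¹ * s * x)) * (x : G)⁻¹ := by
        have h3 : (r : G) * ((x : G)⁻¹ * s * x) = (x : G)⁻¹ * s * x * r := by simpa using h2.symm
        rw [h3]
      _ = _ := by group
  rcases hdich N hNn hN with htop | ⟨hidx, hXQ⟩
  · -- `P ≤ N` is impossible
    exfalso
    obtain ⟨hn1, hn2⟩ := hnormal S₀ hS₀ fun x s hs => hS₀.norm (x : G)
      (show x ∈ N.subgroupOf P₀ from htop ▸ mem_top x) s hs
    exact hne (PGroup.CentralizerSq.commutator_eq_bot_of_split hX hab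
      ((hsup S₀ hS₀).trans htop) (hdisj S₀ hS₀) (key S₀ hS₀).1 (key S₀ hS₀).2.1)
  have hQn : (N.subgroupOf P₀).Normal := inferInstance
  refine ⟨N, hNn, hidx, fun q hq q' hq' => ?_⟩
  have hab_S : ∀ S, MinFactor.Factor N S →
      ∀ a ∈ S.subgroupOf P₀, ∀ a' ∈ S.subgroupOf P₀, a * a' = a' * a := by
    intro S hS
    refine PGroup.CentralizerSq.commute_of_moving (A := S.subgroupOf P₀) (B := (N ⊓ centralizer (S : Set G)).subgroupOf P₀) hX hab hidx hXQ (fun x hx => hS.le hx)
      (fun x hx => hx.1)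
      (fun a ha b hb => Subtype.ext (mem_centralizer_iff.1 hb.2 (a : G) ha)) (hdisj S hS)
      (key S hS).2.2 fun y hy a ha => ?_
    by_cases hfix : S.map (MulAut.conj (y : G)).toMonoidHom = S
    · exfalso
      have hgen : N.subgroupOf P₀ ⊔ zpowers y = ⊤ :=
        PGroup.sup_zpowers_eq_top_of_index (p := p) hidx hy
      have hall' : ∀ x : ↥P₀, ∀ s ∈ S, (x : G) * s * (x : G)⁻¹ ∈ S := by
        have h1 : P₀ ≤ normalizer (S : Set G) := by
          have h2 : (⊤ : Subgroup ↥P₀) ≤ (normalizer (S : Set G)).subgroupOf P₀ := by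
            rw [← hgen]
            refine sup_le (fun x hx => mem_subgroupOf.2 ?_) (zpowers_le.2 (mem_subgroupOf.2 ?_))
            · exact mem_normalizer_fintype fun s hs => hS.norm _ hx s hs
            · exact mem_normalizer_fintype fun s hs => by
                have h3 : (MulAut.conj (y : G)).toMonoidHom s ∈ S.map (MulAut.conj (y : G)).toMonoidHom :=
                  ⟨s, hs, rfl⟩
                rw [hfix] at h3
                exact h3
          exact fun x hx => h2 (mem_top (⟨x, hx⟩ : ↥P₀))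
        exact fun x s hs => (mem_normalizer_iff.1 (h1 x.2) s).1 hs
      obtain ⟨hn1, hn2⟩ := hnormal S hS hall'
      exact PGroup.CentralizerSq.not_split hX hab hidx (hsup S hS) (hdisj S hS) (key S hS).1 (key S hS).2.1
    · refine ⟨hNn.conj_mem _ (hS.le ha) _, mem_centralizer_iff.2 fun s hs => ?_⟩
      exact (hS.commute (hS.conj (y : G)) (Ne.symm hfix) hs ⟨(a : G), ha, rfl⟩).eq
  have hcom : ∀ g : G, ⁅q, q'⁆.1 ∈ centralizer (S₀.map (MulAut.conj g).toMonoidHom : Set G) := by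
    intro g
    have hS := hS₀.conj g
    set S := S₀.map (MulAut.conj g).toMonoidHom
    set B := (N ⊓ centralizer (S : Set G)).subgroupOf P₀
    obtain ⟨a, ha, b, hb, rfl⟩ := (key S hS).2.2 q hq
    obtain ⟨a', ha', b', hb', rfl⟩ := (key S hS).2.2 q' hq'
    have c1 : ∀ x ∈ S.subgroupOf P₀, ∀ z ∈ B, Commute x z := fun x hx z hz =>
      Subtype.ext (mem_centralizer_iff.1 hz.2 (x : G) hx)
    have h1 : (a * b) * (a' * b') = (a * a') * (b * b') := by
      calc (a * b) * (a' * b') = a * (b * a') * b' := by group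
        _ = a * (a' * b) * b' := by rw [(c1 a' ha' b hb).symm.eq]
        _ = _ := by group
    have h2 : (a' * b') * (a * b) = (a * a') * (b' * b) := by
      calc (a' * b') * (a * b) = a' * (b' * a) * b := by group
        _ = a' * (a * b') * b := by rw [(c1 a ha b' hb').symm.eq]
        _ = (a' * a) * (b' * b) := by group
        _ = _ := by rw [hab_S S hS a' ha' a ha]
    have hz : (b * b') * (b' * b)⁻¹ ∈ B := mul_mem (mul_mem hb hb') (inv_mem (mul_mem hb' hb))
    have h3 : ⁅a * b, a' * b'⁆ = (b * b') * (b' * b)⁻¹ := by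
      calc ⁅a * b, a' * b'⁆ = ((a * b) * (a' * b')) * ((a' * b') * (a * b))⁻¹ := by
            rw [commutatorElement_def]; group
        _ = (a * a') * ((b * b') * (b' * b)⁻¹) * (a * a')⁻¹ := by rw [h1, h2]; group
        _ = _ := by rw [(c1 _ (mul_mem ha ha') _ hz).eq, mul_inv_cancel_right]
    rw [h3]
    exact hz.2
  have h4 : (⁅q, q'⁆ : ↥P₀).1 ∈ N ⊓ centralizer (N : Set G) := by
    refine ⟨(show ⁅q, q'⁆ ∈ N.subgroupOf P₀ from hXQ
      (commutator_mem_commutator (mem_top _) (mem_top _))), mem_centralizer_iff.2 fun n hn => ?_⟩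
    have h5 : N ≤ centralizer ({(⁅q, q'⁆ : ↥P₀).1} : Set G) := by
      rw [← hS₀.iSup_conj hmin]
      exact iSup_le fun g x hx => mem_centralizer_singleton_iff.2 (mem_centralizer_iff.1 (hcom g) x hx)
    exact mem_centralizer_singleton_iff.1 (h5 hn)
  rw [MinFactor.inf_centralizer hmin hNab, mem_bot] at h4
  exact commutatorElement_eq_one_iff_mul_comm.1 (Subtype.ext h4)

end Cfsg.Lib.Group.AbelianIndexTrace
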