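import Mathlib.GroupTheory.Transfer
import Mathlib.GroupTheory.Abelianization.Defs
import Mathlib.GroupTheory.FiniteAbelian.Basic
import Mathlib.Algebra.MonoidAlgebra.Basic
import Mathlib.LinearAlgebra.Matrix.Adjugate
import Mathlib.RingTheory.Ideal.Operations

/-!
# The principal ideal theorem: the transfer into the commutator quotient is trivial

Determinant proof in the group ring of `G / G'`.
-/

set_option autoImplicit false

namespace Cfsg.Lib.PrincipalIdeal

open scoped commutatorElement
open MonoidAlgebra (of)

variable (G : Type*) [Group G]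

/-- The additive group `G'/G''`. -/
abbrev Ab := Additive (Abelianization ↥(commutator G))

/-- The group ring of `G / G'`. -/
abbrev GRing := MonoidAlgebra ℤ (Abelianization G)

variable {G}

theorem of_eq_one_iff {x : G} : Abelianization.of x = 1 ↔ x ∈ commutator G :=
  QuotientGroup.eq_one_iff x

open Classical in
/-- The image of an element of `G'` in `G'/G''`. -/
noncomputable def ab (x : G) : Ab G :=
  if h : x ∈ commutator G then Additive.ofMul (Abelianization.of ⟨x, h⟩) else 0

theorem ab_mk {x : G} (h : x ∈ commutator G) :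
    ab x = Additive.ofMul (Abelianization.of (⟨x, h⟩ : ↥(commutator G))) := dif_pos h

theorem ab_mul {x y : G} (hx : x ∈ commutator G) (hy : y ∈ commutator G) :
    ab (x * y) = ab x + ab y := by
  rw [ab_mk hx, ab_mk hy, ab_mk (mul_mem hx hy), ← ofMul_mul, ← map_mul]
  rfl

theorem ab_one : ab (1 : G) = 0 := by
  rw [ab_mk (one_mem _)]
  exact congrArg Additive.ofMul (map_one Abelianization.of)

open Classical in
/-- A normalised section. -/
noncomputable def sec (q : Abelianization G) : G := if q = 1 then 1 else q.out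

theorem sec_one : sec (1 : Abelianization G) = 1 := if_pos rfl

theorem of_sec (q : Abelianization G) : Abelianization.of (sec q) = q := by
  unfold sec
  split
  · next h => rw [h, map_one]
  · exact Quotient.out_eq' q

/-- Conjugation on `G'`. -/
def conjHom (g : G) : ↥(commutator G) →* ↥(commutator G) where
  toFun x := ⟨g * x * g⁻¹, (inferInstance : (commutator G).Normal).conj_mem _ x.2 g⟩
  map_one' := Subtype.ext (by simp)
  map_mul' x y := Subtype.ext (by simp [mul_assoc])

/-- The action of `G / G'` on `G'/G''`, on representatives. -/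
noncomputable def sig (q : Abelianization G) : Ab G →+ Ab G :=
  MonoidHom.toAdditive (Abelianization.map (conjHom (sec q)))

theorem sig_ab (q : Abelianization G) {x : G} (hx : x ∈ commutator G) :
    sig q (ab x) = ab (sec q * x * (sec q)⁻¹) := by
  rw [ab_mk hx, ab_mk ((inferInstance : (commutator G).Normal).conj_mem _ hx _)]
  rfl

theorem exists_ab (a : Ab G) : ∃ x ∈ commutator G, a = ab x := by
  obtain ⟨⟨x, hx⟩, h⟩ := QuotientGroup.mk_surjective (Additive.toMul a)
  exact ⟨x, hx, by rw [ab_mk hx]; exact congrArg Additive.ofMul h.symm⟩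

/-- The cocycle. -/
noncomputable def coc (q r : Abelianization G) : Ab G := ab (sec q * sec r * (sec (q * r))⁻¹)

theorem coc_mem (q r : Abelianization G) : sec q * sec r * (sec (q * r))⁻¹ ∈ commutator G := by
  rw [← of_eq_one_iff, map_mul, map_mul, map_inv, of_sec, of_sec, of_sec, mul_inv_cancel]

theorem conj_mem' {x : G} (hx : x ∈ commutator G) (g : G) : g * x * g⁻¹ ∈ commutator G :=
  (inferInstance : (commutator G).Normal).conj_mem _ hx g

theorem ab_conj {w u : G} (hw : w ∈ commutator G) (hu : u ∈ commutator G) :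
    ab (w * u * w⁻¹) = ab u := by
  have h := ab_mul (mul_mem hw hu) (inv_mem hw)
  have h2 := ab_mul hw hu
  have h3 := ab_mul hw (inv_mem hw)
  rw [mul_inv_cancel, ab_one] at h3
  rw [h, h2, add_right_comm, ← h3, zero_add]

theorem sig_sig (q r : Abelianization G) (a : Ab G) : sig q (sig r a) = sig (q * r) a := by
  obtain ⟨x, hx, rfl⟩ := exists_ab a
  rw [sig_ab r hx, sig_ab q (conj_mem' hx _), sig_ab (q * r) hx,
    ← ab_conj (coc_mem q r) (conj_mem' hx (sec (q * r)))]
  congr 1
  group

theorem sig_one (a : Ab G) : sig (1 : Abelianization G) a = a := by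
  obtain ⟨x, hx, rfl⟩ := exists_ab a
  rw [sig_ab _ hx, sec_one, one_mul, inv_one, mul_one]

theorem coc_one_left (r : Abelianization G) : coc 1 r = 0 := by
  rw [coc, sec_one, one_mul, one_mul, mul_inv_cancel, ab_one]

theorem coc_one_right (q : Abelianization G) : coc q 1 = 0 := by
  rw [coc, sec_one, mul_one, mul_one, mul_inv_cancel, ab_one]

theorem cocycle (q r t : Abelianization G) :
    sig q (coc r t) + coc q (r * t) = coc q r + coc (q * r) t := by
  simp only [coc]
  rw [sig_ab q (coc_mem r t), ← ab_mul (conj_mem' (coc_mem r t) _) (coc_mem q (r * t)),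
    ← ab_mul (coc_mem q r) (coc_mem (q * r) t), mul_assoc q r t]
  congr 1
  group

variable (G) in
/-- The augmentation. -/
noncomputable def aug : GRing G →ₐ[ℤ] ℤ := MonoidAlgebra.lift ℤ ℤ (Abelianization G) 1

theorem aug_of (q : Abelianization G) : aug G (of ℤ _ q) = 1 := by
  simp [aug]

variable (G) in
/-- The augmentation ideal. -/
noncomputable def augIdeal : Ideal (GRing G) := RingHom.ker (aug G : GRing G →+* ℤ)

theorem mem_augIdeal {f : GRing G} : f ∈ augIdeal G ↔ aug G f = 0 := RingHom.mem_ker

theorem sub_one_mem (q : Abelianization G) : of ℤ _ q - 1 ∈ augIdeal G := by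
  rw [mem_augIdeal, map_sub, aug_of, map_one, sub_self]

/-- Linear extension of the cocycle. -/
noncomputable def cocLin (q : Abelianization G) : GRing G →+ Ab G :=
  (Finsupp.liftAddHom fun r => zmultiplesHom (Ab G) (coc q r)).comp
    MonoidAlgebra.coeffAddEquiv.toAddMonoidHom

theorem cocLin_of (q r : Abelianization G) : cocLin q (of ℤ _ r) = coc q r := by
  simp [cocLin]

theorem cocLin_mul (q r : Abelianization G) (f : GRing G) :
    sig q (cocLin r f) + cocLin q (of ℤ _ r * f) = cocLin (q * r) f + aug G f • coc q r := by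
  induction f using MonoidAlgebra.induction_on with
  | of t => rw [← map_mul, cocLin_of, cocLin_of, cocLin_of, aug_of, one_smul, cocycle, add_comm]
  | add x y hx hy => rw [mul_add, map_add, map_add, map_add, map_add, map_add, add_smul,
      add_add_add_comm, hx, hy, add_add_add_comm]
  | smul n x hx => rw [mul_smul_comm, map_zsmul, map_zsmul, map_zsmul, map_zsmul, map_smul,
      smul_eq_mul, mul_smul, ← smul_add, hx, smul_add]

variable (G) in
/-- The extension of the augmentation ideal by `G'/G''`. -/
def Mext : Type _ := Ab G × ↥(augIdeal G)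

noncomputable instance instAddCommGroupMext : AddCommGroup (Mext G) :=
  inferInstanceAs (AddCommGroup (Ab G × ↥(augIdeal G)))

/-- The action of a group element. -/
noncomputable def act (q : Abelianization G) : AddMonoid.End (Mext G) where
  toFun m := (sig q m.1 + cocLin q (m.2 : GRing G),
    ⟨of ℤ _ q * (m.2 : GRing G), Ideal.mul_mem_left _ _ m.2.2⟩)
  map_zero' := Prod.ext (show sig q 0 + cocLin q 0 = 0 by rw [map_zero, map_zero, add_zero])
    (Subtype.ext (show of ℤ _ q * 0 = 0 from mul_zero _))
  map_add' x y := Prod.ext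
    (show sig q (x.1 + y.1) + cocLin q ((x.2 : GRing G) + y.2) = _ by
      rw [map_add, map_add, add_add_add_comm]; rfl)
    (Subtype.ext (show of ℤ _ q * ((x.2 : GRing G) + y.2) = _ by rw [mul_add]; rfl))

/-- The action as a monoid homomorphism. -/
noncomputable def actHom : Abelianization G →* AddMonoid.End (Mext G) where
  toFun := act
  map_one' := DFunLike.ext _ _ fun m => Prod.ext
    (show sig 1 m.1 + cocLin 1 (m.2 : GRing G) = m.1 by
      have h : ∀ f : GRing G, cocLin 1 f = 0 := fun f => by
        induction f using MonoidAlgebra.induction_on with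
        | of t => rw [cocLin_of, coc_one_left]
        | add x y hx hy => rw [map_add, hx, hy, add_zero]
        | smul n x hx => rw [map_zsmul, hx, smul_zero]
      rw [sig_one, h, add_zero])
    (Subtype.ext (show of ℤ _ 1 * (m.2 : GRing G) = m.2 by rw [map_one, one_mul]))
  map_mul' q r := DFunLike.ext _ _ fun m => Prod.ext
    (show sig (q * r) m.1 + cocLin (q * r) (m.2 : GRing G) =
        sig q (sig r m.1 + cocLin r (m.2 : GRing G)) + cocLin q (of ℤ _ r * (m.2 : GRing G)) by
      have h := cocLin_mul q r (m.2 : GRing G)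
      rw [mem_augIdeal.mp m.2.2, zero_smul, add_zero] at h
      rw [map_add, sig_sig, add_assoc, h])
    (Subtype.ext (show of ℤ _ (q * r) * (m.2 : GRing G) = of ℤ _ q * (of ℤ _ r * (m.2 : GRing G))
      by rw [map_mul, mul_assoc]))

noncomputable instance instModuleMext : Module (GRing G) (Mext G) :=
  Module.compHom (Mext G)
    (MonoidAlgebra.lift ℤ (AddMonoid.End (Mext G)) (Abelianization G) actHom).toRingHom

theorem of_smul (q : Abelianization G) (m : Mext G) : of ℤ _ q • m = act q m := by
  show (MonoidAlgebra.lift ℤ (AddMonoid.End (Mext G)) (Abelianization G) actHom)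
    (of ℤ _ q) m = _
  rw [MonoidAlgebra.lift_of]
  rfl

theorem smul_snd (f : GRing G) (m : Mext G) :
    (((f • m).2 : ↥(augIdeal G)) : GRing G) = f * (m.2 : GRing G) := by
  induction f using MonoidAlgebra.induction_on with
  | of t => rw [of_smul]; rfl
  | add x y hx hy => rw [add_smul, add_mul, ← hx, ← hy]; rfl
  | smul n x hx => rw [smul_assoc, smul_mul_assoc, ← hx]; rfl

/-- The crossed homomorphism. -/
noncomputable def dmap (g : G) : Mext G :=
  (ab (g * (sec (Abelianization.of g))⁻¹), ⟨_, sub_one_mem (Abelianization.of g)⟩)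

theorem dmap_mem (g : G) : g * (sec (Abelianization.of g))⁻¹ ∈ commutator G := by
  rw [← of_eq_one_iff, map_mul, map_inv, of_sec, mul_inv_cancel]

theorem dmap_mul (g h : G) :
    dmap (g * h) = dmap g + of ℤ _ (Abelianization.of g) • dmap h := by
  rw [of_smul]
  refine Prod.ext ?_ (Subtype.ext ?_)
  · show ab (g * h * (sec (Abelianization.of (g * h)))⁻¹) =
      ab (g * (sec (Abelianization.of g))⁻¹) +
        (sig (Abelianization.of g) (ab (h * (sec (Abelianization.of h))⁻¹)) +
          cocLin (Abelianization.of g) (of ℤ _ (Abelianization.of h) - 1))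
    rw [map_sub, cocLin_of, ← map_one (of ℤ (Abelianization G)), cocLin_of, coc_one_right,
      sub_zero, map_mul, sig_ab _ (dmap_mem h), coc,
      ← ab_mul (conj_mem' (dmap_mem h) _) (coc_mem _ _),
      ← ab_mul (dmap_mem g) (mul_mem (conj_mem' (dmap_mem h) _) (coc_mem _ _))]
    congr 1
    group
  · show of ℤ _ (Abelianization.of (g * h)) - 1 =
      (of ℤ _ (Abelianization.of g) - 1) +
        of ℤ _ (Abelianization.of g) * (of ℤ _ (Abelianization.of h) - 1)
    rw [map_mul, map_mul]; ring

theorem dmap_one : dmap (1 : G) = 0 := by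
  have h := dmap_mul (1 : G) 1
  rw [map_one, map_one, one_smul, one_mul] at h
  exact left_eq_add.mp h

theorem dmap_mul_of_mem {g : G} (hg : g ∈ commutator G) (h : G) :
    dmap (g * h) = dmap g + dmap h := by
  rw [dmap_mul, of_eq_one_iff.mpr hg, map_one, one_smul]

theorem dmap_inv (g : G) :
    dmap g⁻¹ = -(of ℤ _ (Abelianization.of g⁻¹) • dmap g) := by
  have h := dmap_mul g⁻¹ g
  rw [inv_mul_cancel, dmap_one] at h
  exact eq_neg_of_add_eq_zero_left h.symm

theorem dmap_pow (g : G) (m : ℕ) :
    dmap (g ^ m) = (∑ j ∈ Finset.range m, of ℤ _ (Abelianization.of g) ^ j) • dmap g := by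
  induction m with
  | zero => rw [pow_zero, dmap_one, Finset.sum_range_zero, zero_smul]
  | succ m ih => rw [pow_succ, dmap_mul, ih, Finset.sum_range_succ, add_smul, map_pow, map_pow]

theorem dmap_commutator (a b : G) :
    dmap ⁅a, b⁆ = (1 - of ℤ _ (Abelianization.of b)) • dmap a +
      (of ℤ _ (Abelianization.of a) - 1) • dmap b := by
  have hk : ⁅a, b⁆ ∈ commutator G :=
    Subgroup.commutator_mem_commutator (Subgroup.mem_top a) (Subgroup.mem_top b)
  have h : a * b = ⁅a, b⁆ * (b * a) := by rw [commutatorElement_def]; group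
  have h1 := congrArg dmap h
  rw [dmap_mul_of_mem hk, dmap_mul, dmap_mul] at h1
  rw [eq_sub_of_add_eq h1.symm, sub_smul, sub_smul, one_smul, one_smul]
  abel

theorem transfer_eq_one [Finite G] :
    MonoidHom.transfer (Abelianization.of : ↥(commutator G) →* Abelianization ↥(commutator G)) =
      (1 : G →* Abelianization ↥(commutator G)) := by
  classical
  haveI : Finite (Abelianization G) := inferInstanceAs (Finite (G ⧸ commutator G))
  obtain ⟨ι, hι, n, -, ⟨e⟩⟩ :=
    CommGroup.equiv_prod_multiplicative_zmod_of_finite (Abelianization G)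
  haveI : Fintype ↥(commutator G) := Fintype.ofFinite _
  haveI : Fintype (Abelianization G) := Fintype.ofFinite _
  let qi : ι → Abelianization G := fun i => e.symm (Pi.mulSingle i (Multiplicative.ofAdd 1))
  let x : ι ⊕ ↥(commutator G) → Mext G :=
    Sum.elim (fun i => dmap (sec (qi i))) (fun h => dmap (h : G))
  set V := Submodule.span (GRing G) (Set.range x) with hV
  -- every value of the crossed homomorphism lies in the span
  let K : Subgroup G :=
    { carrier := {g | dmap g ∈ V}
      one_mem' := show dmap (1 : G) ∈ V by rw [dmap_one]; exact V.zero_mem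
      mul_mem' := fun {a b} (ha : dmap a ∈ V) (hb : dmap b ∈ V) => show dmap (a * b) ∈ V by
        rw [dmap_mul]; exact V.add_mem ha (V.smul_mem _ hb)
      inv_mem' := fun {a} (ha : dmap a ∈ V) => show dmap a⁻¹ ∈ V by
        rw [dmap_inv]; exact V.neg_mem (V.smul_mem _ ha) }
  have hspan : ∀ g, dmap g ∈ V := by
    have hH : ∀ h ∈ commutator G, h ∈ K := fun h hh =>
      Submodule.subset_span ⟨Sum.inr ⟨h, hh⟩, rfl⟩
    have hQ : ∀ q, q ∈ K.map (Abelianization.of (G := G)) := by
      intro q
      have hq : q = e.symm (∏ i, Pi.mulSingle i (e q i)) := by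
        rw [Finset.univ_prod_mulSingle, MulEquiv.symm_apply_apply]
      rw [hq, map_prod]
      refine Subgroup.prod_mem _ fun i _ => ?_
      have hsingle : (Pi.mulSingle i (e q i) : (j : ι) → Multiplicative (ZMod (n j))) =
          Pi.mulSingle i (Multiplicative.ofAdd 1) ^ ((Multiplicative.toAdd (e q i)).cast : ℤ) := by
        rw [← Pi.mulSingle_zpow, ← ofAdd_zsmul, zsmul_one, ZMod.intCast_zmod_cast, ofAdd_toAdd]
      rw [hsingle, map_zpow]
      have hmem : qi i ∈ K.map (Abelianization.of (G := G)) :=
        Subgroup.mem_map.mpr ⟨sec (qi i), Submodule.subset_span ⟨Sum.inl i, rfl⟩, of_sec _⟩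
      exact zpow_mem hmem _
    intro g
    obtain ⟨k, hk, hkg⟩ := hQ (Abelianization.of g)
    have : g * k⁻¹ ∈ commutator G := by
      rw [← of_eq_one_iff, map_mul, map_inv, hkg, mul_inv_cancel]
    have h := K.mul_mem (hH _ this) hk
    rwa [inv_mul_cancel_right] at h
  -- elements of the commutator subgroup lie in the augmentation part
  have hW : ∀ h ∈ commutator G, dmap h ∈ augIdeal G • V := by
    let L : Subgroup G :=
      { carrier := {g | g ∈ commutator G ∧ dmap g ∈ augIdeal G • V}
        one_mem' := ⟨one_mem _, by rw [dmap_one]; exact Submodule.zero_mem _⟩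
        mul_mem' := fun {a b} ha hb => ⟨mul_mem ha.1 hb.1, by
          rw [dmap_mul_of_mem ha.1]; exact Submodule.add_mem _ ha.2 hb.2⟩
        inv_mem' := fun {a} ha => ⟨inv_mem ha.1, by
          rw [dmap_inv, of_eq_one_iff.mpr (inv_mem ha.1), map_one, one_smul]
          exact Submodule.neg_mem _ ha.2⟩ }
    intro h hh
    have hle : commutator G ≤ L := by
      rw [commutator_def]
      refine Subgroup.commutator_le.mpr fun a _ b _ => ⟨?_, ?_⟩
      · exact Subgroup.commutator_mem_commutator (Subgroup.mem_top a) (Subgroup.mem_top b)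
      · rw [dmap_commutator]
        refine Submodule.add_mem _ (Submodule.smul_mem_smul ?_ (hspan a))
          (Submodule.smul_mem_smul (sub_one_mem _) (hspan b))
        rw [← neg_sub]
        exact neg_mem (sub_one_mem _)
    exact (hle hh).2
  -- the relations
  let ev : ι ⊕ ↥(commutator G) → GRing G :=
    Sum.elim (fun i => ∑ j ∈ Finset.range (n i), of ℤ _ (qi i) ^ j) (fun _ => 1)
  have hrel : ∀ k, ev k • x k ∈ augIdeal G • V := by
    rintro (i | h)
    · have hq : qi i ^ n i = 1 := by
        rw [← map_pow, ← Pi.mulSingle_pow, ← ofAdd_nsmul, nsmul_one, ZMod.natCast_self,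
          ofAdd_zero, Pi.mulSingle_one, map_one]
      have hmem : sec (qi i) ^ n i ∈ commutator G := by
        rw [← of_eq_one_iff, map_pow, of_sec, hq]
      have := hW _ hmem
      rwa [dmap_pow, of_sec] at this
    · show (1 : GRing G) • dmap (h : G) ∈ _
      rw [one_smul]
      exact hW _ h.2
  have hrel' : ∀ k, ∃ a : ι ⊕ ↥(commutator G) → GRing G,
      (∀ l, a l ∈ augIdeal G) ∧ ev k • x k = ∑ l, a l • x l := by
    intro k
    obtain ⟨a, ha, hsum⟩ := (Submodule.mem_ideal_smul_span_iff_exists_sum _ _ _).mp (hrel k)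
    refine ⟨a, ha, hsum.symm.trans ?_⟩
    exact Finsupp.sum_fintype _ _ fun l => zero_smul _ _
  choose a ha hae using hrel'
  let μ : Matrix (ι ⊕ ↥(commutator G)) (ι ⊕ ↥(commutator G)) (GRing G) :=
    Matrix.diagonal ev - Matrix.of a
  have hμ : ∀ k, ∑ l, μ k l • x l = 0 := by
    intro k
    simp only [μ, Matrix.sub_apply, Matrix.of_apply, sub_smul, Finset.sum_sub_distrib]
    rw [← hae k, Finset.sum_eq_single k (fun l _ hl => by
      rw [Matrix.diagonal_apply_ne' _ hl, zero_smul]) (fun h => absurd (Finset.mem_univ k) h),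
      Matrix.diagonal_apply_eq, sub_self]
  have hann : ∀ j, μ.det • x j = 0 := by
    intro j
    have h1 : ∑ l, (μ.adjugate * μ) j l • x l = μ.det • x j := by
      rw [Matrix.adjugate_mul]
      rw [Finset.sum_eq_single j (fun l _ hl => by
        rw [Matrix.smul_apply, Matrix.one_apply_ne hl.symm, smul_zero, zero_smul])
        (fun h => absurd (Finset.mem_univ j) h), Matrix.smul_apply, Matrix.one_apply_eq,
        smul_eq_mul, mul_one]
    rw [← h1]
    simp only [Matrix.mul_apply, Finset.sum_smul, mul_smul]
    rw [Finset.sum_comm]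
    exact Finset.sum_eq_zero fun k _ => by rw [← Finset.smul_sum, hμ, smul_zero]
  have hannV : ∀ m ∈ V, μ.det • m = 0 := by
    intro m hm
    induction hm using Submodule.span_induction with
    | mem m hm => obtain ⟨j, rfl⟩ := hm; exact hann j
    | zero => exact smul_zero _
    | add u v _ _ hu hv => rw [smul_add, hu, hv, add_zero]
    | smul r u _ hu => rw [smul_comm, hu, smul_zero]
  -- identify the determinant with the norm element
  have haug : aug G μ.det = (Fintype.card (Abelianization G) : ℤ) := by
    rw [AlgHom.map_det, show (aug G).mapMatrix μ = Matrix.diagonal fun k => aug G (ev k) by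
      ext k l
      show aug G (μ k l) = _
      simp only [μ, Matrix.sub_apply, Matrix.of_apply, map_sub, mem_augIdeal.mp (ha k l),
        sub_zero]
      by_cases hkl : k = l
      · subst hkl; rw [Matrix.diagonal_apply_eq, Matrix.diagonal_apply_eq]
      · rw [Matrix.diagonal_apply_ne _ hkl, Matrix.diagonal_apply_ne _ hkl, map_zero],
      Matrix.det_diagonal, Fintype.prod_sum_type, ← Nat.card_eq_fintype_card,
      Nat.card_congr e.toEquiv, Nat.card_pi, Nat.cast_prod]
    have h1 : (∏ _h : ↥(commutator G), aug G (ev (Sum.inr _h))) = 1 :=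
      Finset.prod_eq_one fun _ _ => map_one _
    rw [h1, mul_one]
    refine Finset.prod_congr rfl fun i _ => ?_
    show aug G (∑ j ∈ Finset.range (n i), of ℤ _ (qi i) ^ j) = _
    rw [map_sum, Finset.sum_eq_card_nsmul (b := (1 : ℤ)) fun j _ => by
      rw [map_pow, aug_of, one_pow], Finset.card_range, nsmul_one,
      show Nat.card (Multiplicative (ZMod (n i))) = n i from Nat.card_zmod (n i)]
  let N : GRing G := ∑ q, of ℤ _ q
  have hN : N = μ.det := by
    have hNof : ∀ r, N * of ℤ _ r = N := fun r => by
      simp only [N, Finset.sum_mul, ← map_mul]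
      exact Fintype.sum_equiv (Equiv.mulRight r) _ _ fun q => rfl
    have hNf : ∀ f : GRing G, N * f = aug G f • N := by
      intro f
      induction f using MonoidAlgebra.induction_on with
      | of t => rw [hNof, aug_of, one_smul]
      | add u v hu hv => rw [mul_add, hu, hv, map_add, add_smul]
      | smul k u hu => rw [mul_smul_comm, hu, map_smul, smul_assoc]
    have hq : ∀ q, μ.det * of ℤ _ q = μ.det := by
      intro q
      obtain ⟨g, rfl⟩ : ∃ g, Abelianization.of g = q := ⟨_, of_sec q⟩
      have h := congrArg (fun m : Mext G => ((m.2 : ↥(augIdeal G)) : GRing G))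
        (hannV _ (hspan g))
      simp only [smul_snd] at h
      change μ.det * (of ℤ _ (Abelianization.of g) - 1) = 0 at h
      rw [mul_sub, mul_one, sub_eq_zero] at h
      exact h
    have h1 : μ.det * N = (Fintype.card (Abelianization G)) • μ.det := by
      simp only [N, Finset.mul_sum]
      rw [Finset.sum_congr rfl (fun q _ => hq q), Finset.sum_const, Finset.card_univ]
    rw [mul_comm, hNf, haug, natCast_zsmul] at h1
    have : IsAddTorsionFree (GRing G) :=
      Function.Injective.isAddTorsionFree
        (MonoidAlgebra.coeffAddEquiv (R := ℤ) (M := Abelianization G)).toAddMonoidHom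
        (MonoidAlgebra.coeffAddEquiv (R := ℤ) (M := Abelianization G)).injective
    exact (smul_right_injective _ (Fintype.card_ne_zero)) h1
  -- compute the transfer
  refine MonoidHom.ext fun g => ?_
  have hz : (∑ q : Abelianization G, act q (dmap g)).1 = 0 := by
    have h := hannV _ (hspan g)
    rw [← hN] at h
    simp only [N, Finset.sum_smul, of_smul] at h
    exact congrArg Prod.fst h
  have hfst : (∑ q : Abelianization G, act q (dmap g)).1 =
      ∑ q : Abelianization G, ab (sec q * g * (sec (q * Abelianization.of g))⁻¹) := by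
    refine (map_sum (AddMonoidHom.fst (Ab G) ↥(augIdeal G)) _ _).trans ?_
    refine Finset.sum_congr rfl fun q _ => ?_
    show sig q (ab (g * (sec (Abelianization.of g))⁻¹)) +
      cocLin q (of ℤ _ (Abelianization.of g) - 1) = _
    rw [map_sub, cocLin_of, ← map_one (of ℤ (Abelianization G)), cocLin_of, coc_one_right,
      sub_zero, sig_ab _ (dmap_mem g), coc, ← ab_mul (conj_mem' (dmap_mem g) _) (coc_mem _ _)]
    congr 1
    group
  rw [hfst] at hz
  let f : G ⧸ commutator G → G := fun q => (sec (G := G) q⁻¹)⁻¹
  have hf : ∀ q, ((f q : G) : G ⧸ commutator G) = q := fun q => by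
    show Abelianization.of (sec (G := G) q⁻¹)⁻¹ = _
    rw [map_inv, of_sec]; exact inv_inv q
  letI : Fintype (G ⧸ commutator G) := (commutator G).fintypeQuotientOfFiniteIndex
  let T : (commutator G).LeftTransversal :=
    ⟨Set.range f, Subgroup.isComplement_range_left hf⟩
  rw [MonoidHom.transfer_def _ T, MonoidHom.one_apply]
  apply Additive.ofMul.injective
  rw [ofMul_one, ← hz, Subgroup.leftTransversals.diff]
  refine (ofMul_prod _ _).trans ?_
  refine @Fintype.sum_equiv (G ⧸ commutator G) (Abelianization G) _ (_) (_) _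
    ((Equiv.inv (Abelianization G))) _ _ fun q => ?_
  show Additive.ofMul (Abelianization.of _) = ab (sec (G := G) q⁻¹ * g *
    (sec (Equiv.inv (Abelianization G) q * Abelianization.of g))⁻¹)
  rw [ab_mk (by
    rw [← of_eq_one_iff, map_mul, map_mul, map_inv, of_sec, of_sec]; exact mul_inv_cancel _)]
  refine congrArg (fun z => Additive.ofMul (Abelianization.of z)) (Subtype.ext ?_)
  show ((T.2.leftQuotientEquiv q : G))⁻¹ * ((g • T).2.leftQuotientEquiv q : G) = _
  rw [Subgroup.smul_apply_eq_smul_apply_inv_smul, smul_eq_mul,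
    Subgroup.IsComplement.leftQuotientEquiv_apply hf, Subgroup.IsComplement.leftQuotientEquiv_apply hf]
  show (f q)⁻¹ * (g * f (g⁻¹ • q)) = _
  have hgq : ∀ r : G ⧸ commutator G, Equiv.inv (Abelianization G) (g⁻¹ • r : G ⧸ commutator G) =
      Equiv.inv (Abelianization G) r * Abelianization.of g := by
    intro r
    induction r using QuotientGroup.induction_on with
    | H y =>
      show (Abelianization.of (g⁻¹ * y))⁻¹ = (Abelianization.of y)⁻¹ * Abelianization.of g
      rw [map_mul, map_inv, mul_inv_rev, inv_inv]
  show ((sec (G := G) q⁻¹)⁻¹)⁻¹ *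
    (g * (sec (Equiv.inv (Abelianization G) (g⁻¹ • q : G ⧸ commutator G)))⁻¹) = _
  rw [inv_inv, hgq]; exact (mul_assoc _ _ _).symm

end Cfsg.Lib.PrincipalIdeal
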